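import Mathlib
import Groth.Prelude.Def_W4stktopologysheavesBas

/-!
# Extension of a sheaf of sets on a basis
-/

namespace Groth.Agent.BasisSheaf

open TopologicalSpace Opposite CategoryTheory

universe u

variable {X : Type u} [TopologicalSpace X] {B : Set (Opens X)}

/-- Compatible families over members inside `U`. -/
def ExtObj (F : ShB.Pre B) (U : Opens X) : Type u :=
  {s : ∀ V : B, (V : Opens X) ≤ U → F.obj V //
    ∀ (V W : B) (hV : (V : Opens X) ≤ U) (hW : (W : Opens X) ≤ U) (h : (W : Opens X) ≤ (V : Opens X)),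
      F.res h (s V hV) = s W hW}

/-- The extension presheaf. -/
def extPre (F : ShB.Pre B) : TopCat.Presheaf (Type u) (TopCat.of X) where
  obj U := ExtObj F U.unop
  map {U U'} i := TypeCat.ofHom fun s => (⟨fun V hV => s.1 V (hV.trans (leOfHom i.unop)),
    fun _ _ _ _ h => s.2 _ _ _ _ h⟩ : ExtObj F U'.unop)
  map_id _ := rfl
  map_comp _ _ := rfl

theorem extPre_map_val (F : ShB.Pre B) {U U' : (Opens (TopCat.of X))ᵒᵖ} (i : U ⟶ U') (s : ExtObj F U.unop)
    (V : B) (hV : (V : Opens X) ≤ U'.unop) :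
    (show ExtObj F U'.unop from (extPre F).map i s).1 V hV = s.1 V (hV.trans (leOfHom i.unop)) := rfl

theorem exists_member (hB : Opens.IsBasis B) {U : Opens X} {x : X} (hx : x ∈ U) :
    ∃ W : B, x ∈ (W : Opens X) ∧ (W : Opens X) ≤ U := by
  obtain ⟨W, hW, hxW, hWU⟩ := Opens.isBasis_iff_nbhd.mp hB hx
  exact ⟨⟨W, hW⟩, hxW, hWU⟩

variable (hB : Opens.IsBasis B) {F : ShB.Pre B} (hF : ShB.IsSheaf F)

include hB hF in
theorem extPre_isSheaf : (extPre F).IsSheaf := by
  rw [TopCat.Presheaf.isSheaf_iff_isSheafUniqueGluing]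
  intro ι U sf hsf
  -- covering data for a member inside the supremum
  let c : ∀ V : B, (V : Opens X) ≤ iSup U → ShB.Cover B := fun V hV =>
    { U := V
      ι := {W : B // (W : Opens X) ≤ (V : Opens X) ∧ ∃ i, (W : Opens X) ≤ U i}
      V := fun W => W.1
      V_le := fun W => W.2.1
      V_cover := fun x hx => by
        obtain ⟨i, hi⟩ := Opens.mem_iSup.mp (hV hx)
        obtain ⟨W, hxW, hW⟩ := exists_member hB (show x ∈ (V : Opens X) ⊓ U i from ⟨hx, hi⟩)
        exact Opens.mem_iSup.mpr ⟨⟨W, hW.trans inf_le_left, i, hW.trans inf_le_right⟩, hxW⟩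
      κ := fun a b => {W : B // (W : Opens X) ≤ (a.1 : Opens X) ∧ (W : Opens X) ≤ (b.1 : Opens X)}
      W := fun _ _ W => W.1
      W_le_left := fun _ _ W => W.2.1
      W_le_right := fun _ _ W => W.2.2
      W_cover := fun a b x hx => by
        obtain ⟨W, hxW, hW⟩ := exists_member hB hx
        exact Opens.mem_iSup.mpr ⟨⟨W, hW.trans inf_le_left, hW.trans inf_le_right⟩, hxW⟩ }
  have hag : ∀ (W : B) (i j : ι) (hi : (W : Opens X) ≤ U i) (hj : (W : Opens X) ≤ U j),
      (sf i).1 W hi = (sf j).1 W hj := fun W i j hi hj =>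
    congrFun (congrFun (congrArg Subtype.val (hsf i j)) W) (le_inf hi hj)
  let val : ∀ (W : B), (∃ i, (W : Opens X) ≤ U i) → F.obj W := fun W h => (sf h.choose).1 W h.choose_spec
  have hval : ∀ (W : B) (h : ∃ i, (W : Opens X) ≤ U i) (i : ι) (hi : (W : Opens X) ≤ U i),
      val W h = (sf i).1 W hi := fun W h i hi => hag W _ i h.choose_spec hi
  have hcomp : ∀ (V : B) (hV : (V : Opens X) ≤ iSup U),
      ∀ a b k, F.res ((c V hV).W_le_left a b k) (val a.1 a.2.2) = F.res ((c V hV).W_le_right a b k) (val b.1 b.2.2) := by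
    intro V hV a b k
    obtain ⟨i, hi⟩ := a.2.2
    obtain ⟨j, hj⟩ := b.2.2
    rw [hval _ _ i hi, hval _ _ j hj]
    refine ((sf i).2 a.1 k.1 hi (k.2.1.trans hi) _).trans ?_
    refine Eq.trans ?_ ((sf j).2 b.1 k.1 hj (k.2.2.trans hj) _).symm
    exact hag _ _ _ _ _
  have huniq := fun (V : B) (hV : (V : Opens X) ≤ iSup U) => hF (c V hV) _ (hcomp V hV)
  let t : ∀ (V : B), (V : Opens X) ≤ iSup U → F.obj V := fun V hV => (huniq V hV).exists.choose
  have ht : ∀ (V : B) (hV : (V : Opens X) ≤ iSup U) (a : (c V hV).ι),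
      F.res ((c V hV).V_le a) (t V hV) = val a.1 a.2.2 := fun V hV => (huniq V hV).exists.choose_spec
  refine ⟨(⟨t, ?_⟩ : ExtObj F (iSup U)), ?_, ?_⟩
  · intro V W hV hW h
    refine (huniq W hW).unique ?_ (ht W hW)
    intro a
    rw [F.res_comp]
    exact ht V hV ⟨a.1, a.2.1.trans h, a.2.2⟩
  · intro i
    refine Subtype.ext (funext fun V => funext fun hV => ?_)
    show t V (hV.trans (le_iSup U i)) = (sf i).1 V hV
    refine (huniq V (hV.trans (le_iSup U i))).unique (ht V (hV.trans (le_iSup U i))) ?_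
    intro a
    exact ((sf i).2 V a.1 hV (a.2.1.trans hV) a.2.1).trans (hval a.1 a.2.2 i (a.2.1.trans hV)).symm
  · intro s hs
    refine Subtype.ext (funext fun V => funext fun hV => ?_)
    show s.1 V hV = t V hV
    refine (huniq V hV).unique ?_ (ht V hV)
    intro a
    obtain ⟨i, hi⟩ := a.2.2
    rw [show val a.1 a.2.2 = (sf i).1 a.1 hi from hval _ _ i hi, ← hs i]
    exact s.2 V a.1 hV _ _

/-- Restricting the extension recovers `F`. -/
def extIso (F : ShB.Pre B) : ShB.Iso (ShB.restrict B (extPre F)) F where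
  hom :=
    { app := fun U s => (show ExtObj F (U : Opens X) from s).1 U le_rfl
      natural := fun {U V} h s => (show ExtObj F (U : Opens X) from s).2 U V le_rfl h h }
  inv :=
    { app := fun U t => (⟨fun V hV => F.res hV t, fun V W hV hW h => F.res_comp hV h t⟩ : ExtObj F (U : Opens X))
      natural := fun {U V} h t => Subtype.ext (funext fun W => funext fun hW => (F.res_comp h hW t).symm) }
  hom_inv := fun U s => Subtype.ext (funext fun V => funext fun hV =>
    (show ExtObj F (U : Opens X) from s).2 U V le_rfl hV hV)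
  inv_hom := fun U t => F.res_id U t

include hB in
/-- Uniqueness of the extension. -/
theorem existsUnique_iso (G G' : TopCat.Sheaf (Type u) (TopCat.of X))
    (e : ShB.Iso (ShB.restrict B G.presheaf) F) (e' : ShB.Iso (ShB.restrict B G'.presheaf) F) :
    ∃! φ : G ⟶ G', IsIso φ ∧ ∀ (U : B) (s : G.presheaf.obj (op (U : Opens X))),
      e'.hom.app U (φ.1.app (op (U : Opens X)) s) = e.hom.app U s := by
  let b : B → Opens (TopCat.of X) := Subtype.val
  have hb : Opens.IsBasis (Set.range b) := by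
    rw [show Set.range b = B from Subtype.range_coe]
    exact hB
  let α : (inducedFunctor b).op ⋙ G.presheaf ⟶ (inducedFunctor b).op ⋙ G'.1 :=
    { app := fun U => TypeCat.ofHom fun s => e'.inv.app U.unop (e.hom.app U.unop s)
      naturality := fun U V f => by
        ext s
        show e'.inv.app _ (e.hom.app _ (G.presheaf.map _ s)) = G'.presheaf.map _ (e'.inv.app _ (e.hom.app _ s))
        have h : b V.unop ≤ b U.unop := leOfHom ((inducedFunctor b).map f.unop)
        exact ((e'.inv.natural h (e.hom.app U.unop s)).trans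
          (congrArg (e'.inv.app V.unop) (e.hom.natural h s))).symm }
  let φ0 := TopCat.Sheaf.restrictHomEquivHom G.presheaf G' hb α
  have happ : ∀ (U : B) (s : G.presheaf.obj (op (U : Opens X))),
      φ0.app (op (U : Opens X)) s = e'.inv.app U (e.hom.app U s) := fun U s => by
    have := TopCat.Sheaf.extend_hom_app G.presheaf G' hb α U
    exact congrArg (fun g => g s) this
  refine ⟨⟨φ0⟩, ⟨?_, fun U s => ?_⟩, ?_⟩
  · refine TopCat.Sheaf.isIso_iff_isIso_basis hb fun U => ?_
    rw [isIso_iff_bijective]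
    refine Function.bijective_iff_has_inverse.mpr ⟨fun s => e.inv.app U (e'.hom.app U s), fun s => ?_, fun s => ?_⟩
    · show e.inv.app U (e'.hom.app U (φ0.app (op (U : Opens X)) s)) = s
      rw [happ, e'.inv_hom, e.hom_inv]
    · show φ0.app (op (U : Opens X)) (e.inv.app U (e'.hom.app U s)) = s
      rw [happ, e.inv_hom, e'.hom_inv]
  · show e'.hom.app U (φ0.app (op (U : Opens X)) s) = _
    rw [happ, e'.inv_hom]
  · rintro ⟨ψ⟩ ⟨-, hψ⟩
    refine Sheaf.hom_ext (TopCat.Sheaf.hom_ext G.presheaf G' hb fun U => ?_)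
    ext s
    show ψ.app (op (U : Opens X)) s = φ0.app (op (U : Opens X)) s
    rw [happ, ← e'.hom_inv U (ψ.app (op (U : Opens X)) s)]
    exact congrArg (e'.inv.app U) (hψ U s)

end Groth.Agent.BasisSheaf
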